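import Cfsg.Agent.Lib.InvChar.CosetCert

/-! Coset enumeration certificate J3Y12 for a presented sporadic group. -/

set_option autoImplicit false
set_option maxRecDepth 100000

namespace CfsgLib.InvChar.Coset.J3Y12

/-- facts -/
noncomputable def facts : Tr := (.leaf 0xef000000000df000160000cf00015000000000180000040001600018400017000170000090001630001500015600014000147000130001380001200012100011000110000100001010000f0000f0000040000e40000d0000d30000c0000c40000b0000b30000a0000a400009000093000080000860000700007700006000068000050000540000400004800003000037000020000260000100001300000)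
/-- justifications -/
noncomputable def just : Tr := (.leaf 0x600006c000340004003000000150001a0000c0000c00c0000005400060000640005c0005800024000280002c01180050030001700016000080000700006000050000400003000020000100000428e402c00000054000500004c0004800044000400003c000380000c0000800004000000c3700c000)
/-- relators -/
def rels : List (List ℕ) := [[0, 0], [1, 1], [2, 2], [3, 3], [4, 4], [5, 5], [6, 6], [7, 7], [8, 8], [9, 9], [5, 6, 5, 6, 5, 6], [5, 7, 5, 7, 5, 7, 5, 7, 5, 7], [6, 7, 6, 7, 6, 7], [5, 6, 7, 5, 6, 7, 5, 6, 7], [5, 6, 5, 7, 5, 6, 5, 7, 5, 6, 5, 7, 5, 6, 5, 7, 5, 6, 5, 7], [0, 1, 0, 1, 0, 4, 0, 4], [0, 2, 0, 2, 0, 4, 0, 4], [0, 3, 0, 3, 0, 4, 0, 4], [0, 4, 0, 4, 0, 4, 0, 4], [1, 2, 1, 2, 0, 4, 0, 4], [1, 3, 1, 3, 0, 4, 0, 4], [1, 4, 1, 4, 0, 4, 0, 4], [2, 3, 2, 3, 0, 4, 0, 4], [2, 4, 2, 4, 0, 4, 0, 4], [3, 4,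 3, 4, 0, 4, 0, 4], [0, 1, 2, 3, 4], [5, 0, 5, 1], [5, 1, 5, 0], [5, 2, 5, 3], [5, 3, 5, 2], [5, 4, 5, 4], [6, 0, 6, 1], [6, 1, 6, 0], [6, 2, 6, 2], [6, 3, 6, 4], [6, 4, 6, 3], [7, 0, 7, 2], [7, 1, 7, 1], [7, 2, 7, 0], [7, 3, 7, 4], [7, 4, 7, 3], [4, 0, 4, 0, 4, 0, 4, 0], [4, 0, 4, 0, 1, 0, 4, 0, 4, 1], [4, 0, 4, 0, 2, 0, 4, 0, 4, 2], [4, 0, 4, 0, 3, 0, 4, 0, 4, 3], [4, 0, 4, 0, 5, 0, 4, 0, 4, 5], [4, 0, 4, 0, 6, 0, 4, 0, 4, 6], [4, 0, 4, 0, 7, 0, 4, 0, 4, 7], [3, 6, 7, 8, 3, 6, 7, 8, 3, 6, 7, 8], [9, 3, 6, 7, 8, 9, 8, 7, 6, 3], [9, 3, 2, 5, 9, 3, 2, 5, 9, 3, 2, 5], [9, 7, 6, 3, 6, 7, 8, 9, 7, 6, 3, 6, 7, 8], [9, 3, 2, 5, 7, 6, 3, 6, 7, 8, 9, 3, 2, 5, 7, 6, 3, 6, 7, 8, 9, 3, 2, 5, 7, 6, 3, 6, 7, 8, 9, 3, 2, 5, 7, 6, 3, 6, 7, 8, 9, 3, 2, 5, 7, 6, 3, 6, 7, 8], [6, 7, 8, 3, 2, 5, 8, 7, 6, 3, 5, 2], [3, 6, 7, 8, 7, 6, 8,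 7, 6, 3, 6, 7], [3, 6, 7, 8, 0, 1, 0, 1, 8, 7, 6, 3, 4], [9, 0, 1, 0, 1, 9, 5], [3, 6, 7, 8, 4, 8, 7, 6, 3, 0, 4, 0], [9, 4, 9, 7, 5, 6, 5, 7], [3, 6, 7, 8, 5, 8, 7, 6, 3, 7, 5, 6, 5, 7], [9, 5, 9, 1, 0, 1, 0], [3, 6, 7, 8, 6, 7, 5, 7, 6, 8, 7, 6, 3, 5], [9, 6, 7, 5, 7, 6, 9, 0, 4, 0], [6, 7, 8, 6, 7, 8, 6, 7]]
/-- subgroup words -/
def subs : List (List ℕ) := []
/-- the letters, as letters of the whole group -/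
def emb : List ℕ := [0, 1, 2, 3, 4, 5, 6, 7, 8, 9]
/-- certificate -/
noncomputable def cert : Cert := ⟨10, 29, 24, facts, just, rels, subs⟩

end CfsgLib.InvChar.Coset.J3Y12
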